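import Groth.Agent.CommAlgDim.GlobalDim
import Groth.Agent.CommAlgDim.Regular
import Groth.Agent.SMTLib.NagataUFD
import Mathlib.Algebra.Module.StablyFree.FreeOfInvertible
import Mathlib.RingTheory.UniqueFactorizationDomain.Kaplansky
import Mathlib.RingTheory.Ideal.KrullsHeightTheorem
import Mathlib.RingTheory.LocalProperties.Projective
import Mathlib.RingTheory.PicardGroup
import Mathlib.RingTheory.Localization.Submodule

/-!
# Regular local rings are factorial (Auslander–Buchsbaum)
-/

set_option autoImplicit false

universe u

open IsLocalRing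

namespace RegUFDLib

open CommAlgDim in
/-- Over a localisation of a local ring, finite projective modules coming from modules of finite
projective dimension are stably free. -/
theorem isStablyFree_of_pdlt {A : Type u} [CommRing A] [IsLocalRing A] [IsNoetherianRing A]
    (S : Submonoid A) : ∀ (n : ℕ) (M : Type u) [AddCommGroup M] [Module A M] [Module.Finite A M]
      (M' : Type u) [AddCommGroup M'] [Module A M'] [Module (Localization S) M']
      [IsScalarTower A (Localization S) M'] (f : M →ₗ[A] M') [IsLocalizedModule S f]
      [Module.Projective (Localization S) M'],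
      PDLT A M (n + 1) → Module.IsStablyFree (Localization S) M'
  | 0, M, _, _, _, M', _, _, _, _, f, _, _, h => by
    have := pdlt_one_iff.1 h
    have : Module.Free A M := Module.free_of_flat_of_isLocalRing
    have := Module.free_of_isLocalizedModule (Rₛ := Localization S) S f
    infer_instance
  | n + 1, M, _, _, _, M', _, _, _, _, f, _, _, h => by
    obtain ⟨k, φ, hφ⟩ := Module.Finite.exists_fin' A M
    let F' := LocalizedModule S (Fin k → A)
    have : Module.Free (Localization S) F' :=
      Module.free_of_isLocalizedModule S (LocalizedModule.mkLinearMap S (Fin k → A))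
    have : Module.Finite (Localization S) F' :=
      Module.Finite.of_isLocalizedModule S (LocalizedModule.mkLinearMap S (Fin k → A))
    let g := IsLocalizedModule.map S (LocalizedModule.mkLinearMap S (Fin k → A)) f φ
    let g' : F' →ₗ[Localization S] M' := g.extendScalarsOfIsLocalization S (Localization S)
    have hg : Function.Surjective g' :=
      IsLocalizedModule.map_surjective S (LocalizedModule.mkLinearMap S (Fin k → A)) f φ hφ
    have := LinearMap.toKerLocalized_isLocalizedModule (Localization S) S
      (LocalizedModule.mkLinearMap S (Fin k → A)) f φ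
    let e : LinearMap.ker g ≃ₗ[A] LinearMap.ker g' :=
      { toFun := fun x => ⟨x.1, x.2⟩
        invFun := fun x => ⟨x.1, x.2⟩
        left_inv := fun _ => rfl
        right_inv := fun _ => rfl
        map_add' := fun _ _ => rfl
        map_smul' := fun _ _ => rfl }
    obtain ⟨s, hs⟩ := Module.projective_lifting_property g' LinearMap.id hg
    let r : F' →ₗ[Localization S] LinearMap.ker g' :=
      LinearMap.codRestrict _ (LinearMap.id - s.comp g') fun x => by
        simp [LinearMap.mem_ker, ← LinearMap.comp_apply g' s, hs]
    have hr : r.comp (LinearMap.ker g').subtype = LinearMap.id := by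
      refine LinearMap.ext fun x => Subtype.ext ?_
      simp [r, LinearMap.mem_ker.1 x.2]
    have : Module.Projective (Localization S) (LinearMap.ker g') := Module.Projective.of_split _ r hr
    have : IsLocalizedModule S (e.toLinearMap ∘ₗ
        LinearMap.toKerIsLocalized S (LocalizedModule.mkLinearMap S (Fin k → A)) f φ) :=
      IsLocalizedModule.of_linearEquiv S _ e
    have hK := isStablyFree_of_pdlt S n (LinearMap.ker φ) (LinearMap.ker g')
      (e.toLinearMap ∘ₗ LinearMap.toKerIsLocalized S (LocalizedModule.mkLinearMap S (Fin k → A)) f φ)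
      ((pdlt_ker_iff φ hφ n).1 h)
    obtain ⟨N, _, _, _, _, _⟩ := hK.exist_free_prod
    have : IsNoetherianRing (Localization S) := IsLocalization.isNoetherianRing S _ inferInstance
    have : Module.Finite (Localization S) (LinearMap.ker g') := inferInstance
    let e' : F' ≃ₗ[Localization S] M' × LinearMap.ker g' :=
      LinearEquiv.ofLinear (g'.prod r) (LinearMap.coprod s (LinearMap.ker g').subtype)
        (by
          refine LinearMap.ext fun ⟨x, y⟩ => Prod.ext ?_ (Subtype.ext ?_)
          · simp [← LinearMap.comp_apply g' s, hs, LinearMap.mem_ker.1 y.2]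
          · simp [r, ← LinearMap.comp_apply g' s, hs, LinearMap.mem_ker.1 y.2])
        (by
          refine LinearMap.ext fun x => ?_
          simp [r])
    have : Module.Free (Localization S) (M' × (LinearMap.ker g' × N)) :=
      Module.Free.of_equiv ((e'.prodCongr (LinearEquiv.refl _ N)).trans
        (LinearEquiv.prodAssoc (Localization S) M' (LinearMap.ker g') N))
    exact Module.IsStablyFree.of_free_prod (Localization S) M' (LinearMap.ker g' × N)

/-- An ideal that is locally principal is invertible. -/
theorem invertible_of_locally_principal {L : Type u} [CommRing L] [IsDomain L] {P : Ideal L}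
    (hP : P ≠ ⊥) (hfg : P.FG)
    (h : ∀ (M : Ideal L) [M.IsMaximal], ∃ g ∈ P, ∀ x ∈ P, ∃ s ∉ M, s * x ∈ Ideal.span {g}) :
    Module.Invertible L P := by
  classical
  obtain ⟨a, haP, ha⟩ := Submodule.exists_mem_ne_zero_of_ne_bot hP
  let J : Ideal L :=
    { carrier := {r | ∀ x ∈ P, r * x ∈ Ideal.span {a}}
      zero_mem' := fun x _ => by rw [zero_mul]; exact zero_mem _
      add_mem' := fun {r r'} hr hr' x hx => by rw [add_mul]; exact add_mem (hr x hx) (hr' x hx)
      smul_mem' := fun c r hr x hx => by rw [smul_eq_mul, mul_assoc]; exact Ideal.mul_mem_left _ _ (hr x hx) }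
  have hPJ : P * J = Ideal.span {a} := by
    refine le_antisymm (Ideal.mul_le.2 fun x hx r hr => by rw [mul_comm]; exact hr x hx) ?_
    rw [Ideal.span_singleton_le_iff_mem]
    let T : Ideal L := Submodule.comap (LinearMap.mulRight L a) (P * J)
    suffices hT : T = ⊤ by
      simpa [T] using (Ideal.eq_top_iff_one T).1 hT
    by_contra hne
    obtain ⟨M, hM, hTM⟩ := Ideal.exists_le_maximal T hne
    obtain ⟨g, hgP, hg⟩ := h M
    obtain ⟨G, hG⟩ := hfg
    choose! σ hσM hσ using hg
    have hs : ∀ x ∈ P, (∏ x ∈ G, σ x) * x ∈ Ideal.span {g} := fun x hx => by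
      rw [← hG] at hx
      induction hx using Submodule.span_induction with
      | mem y hy =>
        rw [← Finset.prod_erase_mul _ _ hy, mul_assoc]
        exact Ideal.mul_mem_left _ _ (hσ y (hG ▸ Ideal.subset_span hy))
      | zero => rw [mul_zero]; exact zero_mem _
      | add y z _ _ hy hz => rw [mul_add]; exact add_mem hy hz
      | smul c y _ hy => rw [smul_eq_mul, mul_left_comm]; exact Ideal.mul_mem_left _ _ hy
    have hsM : (∏ x ∈ G, σ x) ∉ M := fun hmem => by
      obtain ⟨x, hx, hxM⟩ := (hM.isPrime.prod_mem_iff).1 hmem
      exact hσM x (hG ▸ Ideal.subset_span hx) hxM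
    obtain ⟨r, hr⟩ := Ideal.mem_span_singleton'.1 (hs a haP)
    have hg0 : g ≠ 0 := by
      rintro rfl
      rw [mul_zero] at hr
      rcases mul_eq_zero.1 hr.symm with h0 | h0
      exacts [hsM (h0 ▸ zero_mem M), ha h0]
    have hrJ : r ∈ J := fun x hx => by
      obtain ⟨q, hq⟩ := Ideal.mem_span_singleton'.1 (hs x hx)
      refine Ideal.mem_span_singleton'.2 ⟨q, mul_right_cancel₀ hg0 ?_⟩
      calc q * a * g = a * (q * g) := by ring
        _ = a * ((∏ x ∈ G, σ x) * x) := by rw [hq]
        _ = ((∏ x ∈ G, σ x) * a) * x := by ring
        _ = r * g * x := by rw [hr]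
        _ = r * x * g := by ring
    refine hsM (hTM ?_)
    show (∏ x ∈ G, σ x) * a ∈ P * J
    rw [← hr, mul_comm r g]
    exact Ideal.mul_mem_mul hgP hrJ
  let K := FractionRing L
  have : FaithfulSMul L K := (faithfulSMul_iff_algebraMap_injective L K).2 (IsFractionRing.injective L K)
  have haK : algebraMap L K a ≠ 0 :=
    (map_ne_zero_iff _ (IsFractionRing.injective L K)).2 ha
  let P' : Submodule L K := IsLocalization.coeSubmodule K P
  let J' : Submodule L K := IsLocalization.coeSubmodule K J * Submodule.span L {(algebraMap L K a)⁻¹}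
  have h1 : P' * J' = 1 := by
    show IsLocalization.coeSubmodule K P * (IsLocalization.coeSubmodule K J * _) = 1
    rw [← mul_assoc, ← IsLocalization.coeSubmodule_mul, hPJ, IsLocalization.coeSubmodule_span_singleton,
      Submodule.span_mul_span, Set.singleton_mul_singleton, mul_inv_cancel₀ haK, Submodule.one_eq_span]
  let U : (Submodule L K)ˣ := ⟨P', J', h1, by rw [mul_comm]; exact h1⟩
  have hU : Module.Invertible L (P' : Submodule L K) :=
    Module.Invertible.left (Submodule.tensorInvEquiv U)
  exact @Module.Invertible.congr L P' P _ _ _ _ _ hU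
    (Submodule.equivMapOfInjective (Algebra.linearMap L K) (IsFractionRing.injective L K) P).symm

theorem ufd_aux : ∀ (d : ℕ) (A : Type u) [CommRing A] [IsRegularLocalRing A],
    (maximalIdeal A).spanFinrank ≤ d → UniqueFactorizationMonoid A
  | 0, A, _, _, h => by
    have : IsDomain A := CommAlgDim.isDomain_of_isRegularLocalRing A
    have hm : maximalIdeal A = ⊥ := by
      rw [← Submodule.spanFinrank_eq_zero_iff_eq_bot (IsNoetherian.noetherian _)]
      omega
    refine UniqueFactorizationMonoid.iff_exists_prime_mem_of_isPrime.2 fun P hP hPp => ?_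
    exact absurd (eq_bot_iff.2 ((le_maximalIdeal hPp.ne_top).trans hm.le)) hP
  | d + 1, A, _, _, h => by
    have : IsDomain A := CommAlgDim.isDomain_of_isRegularLocalRing A
    by_cases hd : (maximalIdeal A).spanFinrank ≤ d
    · exact ufd_aux d A hd
    have hmne : maximalIdeal A ≠ ⊥ := fun h0 => hd (by simp [h0])
    obtain ⟨x, hxm, hx2⟩ : ∃ x ∈ maximalIdeal A, x ∉ maximalIdeal A ^ 2 := by
      by_contra hcon
      push Not at hcon
      refine hmne (Submodule.eq_bot_of_le_smul_of_le_jacobson_bot (maximalIdeal A) _
        (IsNoetherian.noetherian _) ?_ (jacobson_eq_maximalIdeal ⊥ bot_ne_top).ge)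
      intro y hy
      simpa [pow_two] using hcon y hy
    have hx0 : x ≠ 0 := fun h0 => hx2 (h0 ▸ zero_mem _)
    have := CommAlgDim.isRegularLocalRing_quotient_singleton hxm hx2
    have hprime : Prime x := by
      rw [← Ideal.span_singleton_prime hx0, ← Ideal.Quotient.isDomain_iff_prime]
      exact CommAlgDim.isDomain_of_isRegularLocalRing _
    let S : Submonoid A := Submonoid.closure {x}
    have hS : S ≤ nonZeroDivisors A :=
      Submonoid.closure_le.2 (Set.singleton_subset_iff.2 (mem_nonZeroDivisors_of_ne_zero hx0))
    let L := Localization S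
    have : IsDomain L := IsLocalization.isDomain_localization hS
    have : IsNoetherianRing L := IsLocalization.isNoetherianRing S _ inferInstance
    have hLmin : ∀ P : Ideal L, P.IsPrime → P ≠ ⊥ → (∀ Q : Ideal L, Q.IsPrime → Q ≠ ⊥ → Q ≤ P → Q = P) →
        ∃ g, P = Ideal.span {g} := by
      intro P hP hP0 hmin
      let P₀ := P.comap (algebraMap A L)
      have hmap : P₀.map (algebraMap A L) = P := IsLocalization.map_comap S L P
      have hloc : ∀ (M : Ideal L) [M.IsMaximal],
          ∃ g ∈ P, ∀ y ∈ P, ∃ s ∉ M, s * y ∈ Ideal.span {g} := by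
        intro M hM
        by_cases hPM : P ≤ M
        swap
        · obtain ⟨g, hgP, hgM⟩ := SetLike.not_le_iff_exists.1 hPM
          exact ⟨g, hgP, fun y _ => ⟨g, hgM, Ideal.mul_mem_right _ _ (Ideal.mem_span_singleton_self g)⟩⟩
        let Q := M.comap (algebraMap A L)
        have hQm : Q ≠ maximalIdeal A := fun hQ => by
          have hxM : x ∈ Q := hQ ▸ hxm
          exact hM.ne_top (Ideal.eq_top_of_isUnit_mem _ hxM
            (IsLocalization.map_units L (⟨x, Submonoid.subset_closure rfl⟩ : S)))
        let AQ := Localization.AtPrime Q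
        have := CommAlgDim.isRegularLocalRing_localization A Q
        have : IsDomain AQ := IsLocalization.isDomain_localization Q.primeCompl_le_nonZeroDivisors
        have hdim : (maximalIdeal AQ).spanFinrank ≤ d := by
          have h1 := (isRegularLocalRing_iff AQ).1 inferInstance
          have h2 := (isRegularLocalRing_iff A).1 inferInstance
          rw [IsLocalization.AtPrime.ringKrullDim_eq_height Q AQ] at h1
          rw [← maximalIdeal_height_eq_ringKrullDim] at h2
          have hlt : Q.height < (maximalIdeal A).height :=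
            Ideal.height_strict_mono_of_isPrime (lt_of_le_of_ne (le_maximalIdeal (Ideal.IsPrime.ne_top inferInstance)) hQm)
          have h3 : ((maximalIdeal AQ).spanFinrank : WithBot ℕ∞) < (maximalIdeal A).spanFinrank := by
            rw [h1, h2]
            exact_mod_cast hlt
          have h4 : (maximalIdeal AQ).spanFinrank < (maximalIdeal A).spanFinrank := by exact_mod_cast h3
          omega
        have := ufd_aux d AQ hdim
        have hP₀Q : P₀ ≤ Q := Ideal.comap_mono hPM
        let P₁ := P₀.map (algebraMap A AQ)
        have hdisj : Disjoint (Q.primeCompl : Set A) P₀ := Set.disjoint_left.2 fun y hy hy' => hy (hP₀Q hy')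
        have hP₁ : P₁.IsPrime := IsLocalization.isPrime_of_isPrime_disjoint Q.primeCompl _ P₀ inferInstance hdisj
        have hcomap : P₁.comap (algebraMap A AQ) = P₀ :=
          IsLocalization.comap_map_of_isPrime_disjoint Q.primeCompl _ inferInstance hdisj
        have hP₁0 : P₁ ≠ ⊥ := fun h0 => hP0 (by
          rw [← hmap]
          have h1 : P₀ = ⊥ := by
            rw [← hcomap, h0, ← RingHom.ker_eq_comap_bot,
              (RingHom.injective_iff_ker_eq_bot _).1 (IsLocalization.injective AQ Q.primeCompl_le_nonZeroDivisors)]
          rw [h1, Ideal.map_bot])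
        obtain ⟨q, hqP, hq⟩ := UniqueFactorizationMonoid.iff_exists_prime_mem_of_isPrime.1 ‹_› P₁ hP₁0 hP₁
        have hqspan : (Ideal.span {q}).IsPrime := (Ideal.span_singleton_prime hq.ne_zero).2 hq
        have hle : Ideal.span {q} ≤ P₁ := (Ideal.span_singleton_le_iff_mem _).2 hqP
        let Q' := (Ideal.span {q}).comap (algebraMap A AQ)
        have hQ'P : Q' ≤ P₀ := hcomap ▸ Ideal.comap_mono hle
        have hQ'0 : Q' ≠ ⊥ := fun h0 => hq.ne_zero (by
          have h1 : Q'.map (algebraMap A AQ) = Ideal.span {q} := IsLocalization.map_comap Q.primeCompl AQ _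
          rw [h0, Ideal.map_bot] at h1
          exact Ideal.span_singleton_eq_bot.1 h1.symm)
        have hdisj' : Disjoint (S : Set A) Q' := by
          refine Set.disjoint_left.2 fun y hy hy' => hP.ne_top ?_
          exact Ideal.eq_top_of_isUnit_mem _ (show algebraMap A L y ∈ P from hQ'P hy')
            (IsLocalization.map_units L ⟨y, hy⟩)
        have hQ'eq : Q'.map (algebraMap A L) = P := by
          refine hmin _ (IsLocalization.isPrime_of_isPrime_disjoint S L Q' inferInstance hdisj') ?_ ?_
          · intro h0
            apply hQ'0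
            rw [← IsLocalization.comap_map_of_isPrime_disjoint S L (I := Q') inferInstance hdisj', h0]
            exact (RingHom.injective_iff_ker_eq_bot _).1 (IsLocalization.injective L hS)
          · rw [← hmap]; exact Ideal.map_mono hQ'P
        have hQ'P₀ : Q' = P₀ := by
          rw [← IsLocalization.comap_map_of_isPrime_disjoint S L (I := Q') inferInstance hdisj', hQ'eq]
        obtain ⟨g₀, t, hgt⟩ := IsLocalization.exists_mk'_eq Q.primeCompl q
        have hg₀ : g₀ ∈ P₀ := by
          rw [← hQ'P₀]
          show algebraMap A AQ g₀ ∈ Ideal.span {q}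
          rw [← IsLocalization.mk'_spec AQ g₀ t, hgt]
          exact Ideal.mul_mem_right _ _ (Ideal.mem_span_singleton_self q)
        refine ⟨algebraMap A L g₀, hg₀, fun y hy => ?_⟩
        obtain ⟨y₀, w, rfl⟩ := IsLocalization.exists_mk'_eq S y
        have hy₀ : y₀ ∈ P₀ := by
          show algebraMap A L y₀ ∈ P
          rw [← IsLocalization.mk'_spec L y₀ w]
          exact Ideal.mul_mem_right _ _ hy
        have hy₁ : algebraMap A AQ y₀ ∈ Ideal.span {q} := by rw [← hQ'P₀] at hy₀; exact hy₀
        obtain ⟨c, hc⟩ := Ideal.mem_span_singleton'.1 hy₁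
        obtain ⟨c₀, t', rfl⟩ := IsLocalization.exists_mk'_eq Q.primeCompl c
        rw [← hgt, ← IsLocalization.mk'_mul, IsLocalization.mk'_eq_iff_eq_mul, ← map_mul] at hc
        have hc' := IsLocalization.injective AQ Q.primeCompl_le_nonZeroDivisors hc
        refine ⟨algebraMap A L (↑(t' * t) * w), fun hmem => ?_, ?_⟩
        · rw [map_mul] at hmem
          rcases hM.isPrime.mem_or_mem hmem with h' | h'
          · exact (t' * t).2 h'
          · exact hM.ne_top (Ideal.eq_top_of_isUnit_mem _ h' (IsLocalization.map_units L w))
        · rw [map_mul, mul_assoc, mul_comm (algebraMap A L (w : A)), IsLocalization.mk'_spec, ← map_mul,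
            mul_comm (↑(t' * t) : A), ← hc', map_mul]
          exact Ideal.mul_mem_left _ _ (Ideal.mem_span_singleton_self _)
      have hinv : Module.Invertible L P :=
        invertible_of_locally_principal hP0 (IsNoetherian.noetherian _) hloc
      have hpd := CommAlgDim.pdlt_of_isRegularLocalRing A P₀
      let f : P₀ →ₗ[A] P :=
        { toFun := fun y => ⟨algebraMap A L y.1, y.2⟩
          map_add' := fun _ _ => Subtype.ext (map_add _ _ _)
          map_smul' := fun r y => Subtype.ext (by simp [Algebra.smul_def]) }
      have : IsLocalizedModule S f :=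
        { map_units := fun s => by
            rw [Module.End.isUnit_iff]
            have hu := IsLocalization.map_units L s
            refine ⟨fun y z hyz => ?_, fun y => ⟨⟨((hu.unit⁻¹ : Lˣ) : L) * y.1, Ideal.mul_mem_left _ _ y.2⟩, ?_⟩⟩
            · have h1 := congrArg Subtype.val hyz
              simp only [Module.algebraMap_end_apply, SetLike.val_smul_of_tower, Algebra.smul_def] at h1
              exact Subtype.ext (hu.mul_left_cancel h1)
            · refine Subtype.ext ?_
              simp only [Module.algebraMap_end_apply, SetLike.val_smul_of_tower, Algebra.smul_def]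
              rw [← mul_assoc, IsUnit.mul_val_inv, one_mul]
          surj := fun y => by
            obtain ⟨y₀, w, hyw⟩ := IsLocalization.exists_mk'_eq S y.1
            refine ⟨(⟨y₀, ?_⟩, w), Subtype.ext ?_⟩
            · show algebraMap A L y₀ ∈ P
              rw [← IsLocalization.mk'_spec L y₀ w, hyw]
              exact Ideal.mul_mem_right _ _ y.2
            · show ((w • y : P) : L) = algebraMap A L y₀
              rw [SetLike.val_smul_of_tower, Submonoid.smul_def, Algebra.smul_def, ← hyw, mul_comm,
                IsLocalization.mk'_spec]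
          exists_of_eq := fun {y z} hyz => ⟨1, by
            rw [Subtype.ext (IsLocalization.injective L hS (congrArg Subtype.val hyz))]⟩ }
      have := isStablyFree_of_pdlt S _ P₀ P f hpd
      have := Module.free_of_isStablyFree_of_invertible L P
      obtain ⟨e⟩ := Module.Invertible.free_iff_linearEquiv.1 this
      refine ⟨(e.symm 1 : P).1, le_antisymm (fun y hy => ?_) ((Ideal.span_singleton_le_iff_mem _).2 (e.symm 1).2)⟩
      refine Ideal.mem_span_singleton'.2 ⟨e ⟨y, hy⟩, ?_⟩
      have h1 : e ⟨y, hy⟩ • e.symm 1 = ⟨y, hy⟩ := by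
        rw [← map_smul, smul_eq_mul, mul_one, e.symm_apply_apply]
      exact congrArg Subtype.val h1
    have : UniqueFactorizationMonoid L := by
      refine UniqueFactorizationMonoid.iff_exists_prime_mem_of_isPrime.2 fun Q hQ hQp => ?_
      obtain ⟨a, haQ, ha⟩ := Submodule.exists_mem_ne_zero_of_ne_bot hQ
      obtain ⟨P, hPmin, hPQ⟩ := Ideal.exists_minimalPrimes_le ((Ideal.span_singleton_le_iff_mem _).2 haQ)
      have hPp : P.IsPrime := hPmin.1.1
      have haP : a ∈ P := hPmin.1.2 (Ideal.mem_span_singleton_self a)
      have hP0 : P ≠ ⊥ := fun h0 => ha (by simpa [h0] using haP)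
      have hle1 : P.height ≤ 1 :=
        Ideal.height_le_one_of_isPrincipal_of_mem_minimalPrimes (Ideal.span {a}) P hPmin
      obtain ⟨g, hg⟩ := hLmin P hPp hP0 fun Q' hQ' hQ'0 hQ'P => by
        by_contra hne
        have h1 : Q'.height < P.height := Ideal.height_strict_mono_of_isPrime (lt_of_le_of_ne hQ'P hne)
        have h2 : (⊥ : Ideal L).height < Q'.height :=
          Ideal.height_strict_mono_of_isPrime (bot_lt_iff_ne_bot.2 hQ'0)
        have h3 := h1.trans_le hle1
        rw [ENat.lt_one_iff_eq_zero] at h3
        rw [h3] at h2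
        exact not_lt_bot h2
      have hg0 : g ≠ 0 := fun h0 => hP0 (by rw [hg, h0, Ideal.span_singleton_eq_bot])
      exact ⟨g, hPQ (hg ▸ Ideal.mem_span_singleton_self g), (Ideal.span_singleton_prime hg0).1 (hg ▸ hPp)⟩
    exact SMTLib.ufd_of_ufd_localization (fun a ha => WfDvdMonoid.exists_factors a ha) (P := {x})
      (fun p hp => Set.mem_singleton_iff.1 hp ▸ hprime) L

/-- Regular local rings are unique factorisation domains. -/
theorem uniqueFactorizationMonoid (A : Type u) [CommRing A] [IsRegularLocalRing A] :
    UniqueFactorizationMonoid A :=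
  ufd_aux _ A le_rfl

end RegUFDLib
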